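import Mathlib.AlgebraicGeometry.Birational.RationalMap

/-!
# The largest representative over the base of a rational map
-/

set_option autoImplicit false
set_option linter.style.haveILetI false

universe u

open AlgebraicGeometry CategoryTheory CategoryTheory.Limits TopologicalSpace Scheme

namespace Groth.Misc1.RatMap

variable {X Y S : Scheme.{u}} [X.Over S] [Y.Over S]

variable (S) in
/-- index type: representatives over `S` -/
abbrev Reps (f : X ⤏ Y) : Type u := {g : X.PartialMap Y // g.IsOver S ∧ g.toRationalMap = f}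

set_option backward.isDefEq.respectTransparency false in
variable (S) in
/-- the cover of the union of the domains -/
noncomputable def cover (f : X ⤏ Y) : (⨆ i : Reps S f, i.1.domain : X.Opens).toScheme.OpenCover where
  I₀ := Reps S f
  X i := i.1.domain.toScheme
  f i := X.homOfLE (le_iSup (fun i : Reps S f => i.1.domain) i)
  mem₀ := by
    rw [presieve₀_mem_precoverage_iff]
    refine ⟨fun x ↦ ?_, inferInstance⟩
    obtain ⟨i, hi⟩ := Opens.mem_iSup.mp x.2
    exact ⟨i, ⟨x.1, hi⟩, Subtype.ext (by simp)⟩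

set_option backward.isDefEq.respectTransparency false in
theorem exists_largest [IsReduced X] [IsSeparated (Y ↘ S)] (f : X ⤏ Y) [f.IsOver S] :
    ∃ g : X.PartialMap Y, g.IsOver S ∧ g.toRationalMap = f ∧
      ∀ h : X.PartialMap Y, h.IsOver S → h.toRationalMap = f →
        ∃ hle : h.domain ≤ g.domain, h = g.restrict h.domain h.dense_domain hle := by
  obtain ⟨g₀, hg₀, hgf₀⟩ := Scheme.RationalMap.exists_partialMap_over S f
  let D : X.Opens := ⨆ i : Reps S f, i.1.domain
  have hle : ∀ i : Reps S f, i.1.domain ≤ D := fun i => le_iSup (fun i : Reps S f => i.1.domain) i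
  have hD : Dense (D : Set X) := g₀.dense_domain.mono (hle ⟨g₀, hg₀, hgf₀⟩)
  have hc : ∀ i j : Reps S f,
      pullback.fst ((cover S f).f i) ((cover S f).f j) ≫ i.1.hom =
        pullback.snd ((cover S f).f i) ((cover S f).f j) ≫ j.1.hom := by
    intro i j
    haveI := i.2.1
    haveI := j.2.1
    refine (cancel_epi (isPullback_opens_inf_le (hle i) (hle j)).isoPullback.hom).mp ?_
    simp only [cover, IsPullback.isoPullback_hom_fst_assoc, IsPullback.isoPullback_hom_snd_assoc]
    exact (Scheme.PartialMap.equiv_iff_of_isSeparated (S := S) (f := i.1) (g := j.1)).mp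
      (Scheme.PartialMap.toRationalMap_eq_iff.mp (i.2.2.trans j.2.2.symm))
  let φ : D.toScheme ⟶ Y := (cover S f).glueMorphisms (fun i => i.1.hom) hc
  have hφ : ∀ i : Reps S f, X.homOfLE (hle i) ≫ φ = i.1.hom := fun i =>
    (cover S f).ι_glueMorphisms _ _ i
  let g : X.PartialMap Y := ⟨D, hD, φ⟩
  have hres : ∀ i : Reps S f, i.1 = g.restrict i.1.domain i.1.dense_domain (hle i) := fun i =>
    Scheme.PartialMap.ext _ _ rfl (by simpa [g] using (hφ i).symm)
  refine ⟨g, ?_, ?_, fun h hh hhf => ⟨hle ⟨h, hh, hhf⟩, hres ⟨h, hh, hhf⟩⟩⟩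
  · rw [Scheme.PartialMap.isOver_iff]
    refine (cover S f).hom_ext _ _ fun i => ?_
    change X.homOfLE (hle i) ≫ φ ≫ (Y ↘ S) = X.homOfLE (hle i) ≫ D.ι ≫ (X ↘ S)
    rw [← Category.assoc, hφ, ← Category.assoc, Scheme.homOfLE_ι]
    exact Scheme.PartialMap.isOver_iff.mp i.2.1
  · rw [← hgf₀, Scheme.PartialMap.toRationalMap_eq_iff]
    have := g.restrict_equiv g₀.domain g₀.dense_domain (hle ⟨g₀, hg₀, hgf₀⟩)
    rw [← hres ⟨g₀, hg₀, hgf₀⟩] at this
    exact this.symm

end Groth.Misc1.RatMap
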